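import Groth.Agent.OmegaLib.Exact
import Groth.Agent.OmegaLib.Smooth
import Groth.Agent.OmegaLib.Etale
import Groth.Agent.OmegaLib.FiniteType
import Groth.Agent.CurveOmega.General
import Groth.Agent.DualGeneric.PushDeg
import Groth.Agent.W7Cover.Degree
import Groth.Agent.S6554

/-!
# The Hurwitz formula
-/

set_option autoImplicit false
set_option backward.isDefEq.respectTransparency false
set_option linter.style.haveILetI false

universe u

open CategoryTheory CategoryTheory.Limits AlgebraicGeometry TopologicalSpace Opposite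
open Groth.Agent Groth.Agent.CohFinite

noncomputable section

namespace Groth.Agent.Hurwitz

theorem isClosed_of_discrete {X Y : Scheme.{u}} (f : X ⟶ Y) [IsFinite f] {a b : X} (h : a ⤳ b) (e : f a = f b) :
    a = b := by
  haveI := (f.isDiscrete_preimage_singleton (f a)).to_subtype
  exact congrArg Subtype.val ((subtype_specializes_iff (⟨a, rfl⟩ : f ⁻¹' {f a}) ⟨b, e.symm⟩).2 h).eq

theorem not_isZero {X : Scheme.{u}} [Nonempty X] {L : X.Modules} (hL : PicF.IsInvertible L) : ¬ IsZero L := by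
  intro hz
  obtain ⟨x⟩ := (inferInstance : Nonempty X)
  obtain ⟨D, g, hxD, hg⟩ := TMul.exists_isGen hL x
  have hg0 : g = 0 := by
    have h := congrArg (fun φ : L ⟶ L => φ.app D g) ((IsZero.iff_id_eq_zero L).1 hz)
    exact h
  have h1 := ZeroSch.eq_of_germ_smul hg hxD (z := (1 : X.presheaf.stalk x)) (w := 0)
    (by simp [hg0])
  exact one_ne_zero h1

variable (k : Type u) [Field k] {X Y : Scheme.{u}} (q : Y ⟶ Spec (CommRingCat.of k)) (f : X ⟶ Y)

/-- The sequence of differentials of a generically étale map of curves is short exact. -/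
theorem exists_shortExact [IsSeparated q] [IsFinite f] [IsIntegral X] (hX : PicF.IsInvertible (Omega.sheaf (f ≫ q)))
    (hY : PicF.IsInvertible (Omega.sheaf q)) (U : X.Opens) (hU : (U : Set X).Nonempty) [Etale (U.ι ≫ f)] :
    ∃ (c : (Scheme.Modules.pullback f).obj (Omega.sheaf q) ⟶ Omega.sheaf (f ≫ q))
      (p : Omega.sheaf (f ≫ q) ⟶ Omega.sheaf f) (w : c ≫ p = 0), c ≠ 0 ∧ (ShortComplex.mk c p w).ShortExact := by
  have dY := OmegaLib.isUniversal_dOmega q
  have dX := OmegaLib.isUniversal_dOmega (f ≫ q)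
  have dF := OmegaLib.isUniversal_dOmega f
  obtain ⟨c₁, hc₁, -⟩ := OmegaLib.existsUnique_diffCompat (f' := f ≫ q) (b := 𝟙 _) (h := f)
    (Category.comp_id _) dY (OmegaSh.dOmega (f ≫ q))
  obtain ⟨c₂, hc₂, -⟩ := OmegaLib.existsUnique_diffCompat (f' := f) (b := q) (h := 𝟙 X)
    (Category.id_comp _).symm dX (OmegaSh.dOmega f)
  obtain ⟨he, him⟩ := OmegaLib.exact_of_comp dY dX dF hc₁ hc₂
  let p := (Scheme.Modules.pullbackId X).inv.app (Omega.sheaf (f ≫ q)) ≫ c₂
  have w : c₁ ≫ p = 0 := OmegaLib.comp_eq_zero dY hc₁ hc₂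
  have hex : (ShortComplex.mk c₁ p w).Exact := (ShortComplex.exact_iff_image_eq_kernel _).2 him
  have hne : c₁ ≠ 0 := by
    intro h0
    have hmono : Mono p := hex.mono_g h0
    haveI : Epi p := epi_comp _ _
    haveI := isIso_of_mono_of_epi p
    haveI : IsIso ((Scheme.Modules.pullback U.ι).map p) := inferInstance
    obtain ⟨c₃, hc₃, -⟩ := OmegaLib.existsUnique_diffCompat (f' := U.ι ≫ f) (b := 𝟙 Y) (h := U.ι)
      (Category.comp_id _) dF (OmegaSh.dOmega (U.ι ≫ f))
    haveI := OmegaLib.isIso_of_etale (g := 𝟙 Y) (Category.comp_id _).symm dF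
      (OmegaLib.isUniversal_dOmega (U.ι ≫ f)) hc₃
    have hz : IsZero (Omega.sheaf (U.ι ≫ f)) :=
      (OmegaLib.formallyUnramified_iff_isZero (OmegaLib.isUniversal_dOmega (U.ι ≫ f))).1 inferInstance
    have hz' : IsZero ((Scheme.Modules.pullback U.ι).obj (Omega.sheaf (f ≫ q))) :=
      hz.of_iso (asIso ((Scheme.Modules.pullback U.ι).map p) ≪≫ asIso c₃)
    haveI : Nonempty U := hU.to_subtype
    exact not_isZero (PicLoc.isInvertible_pullback U.ι hX) hz'
  haveI := CurveRR.mono_of_ne_zero (PicLoc.isInvertible_pullback f hY) hX c₁ hne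
  exact ⟨c₁, p, w, hne, { exact := hex, mono_f := ‹_›, epi_g := epi_comp _ _ }⟩

variable {X Y : Scheme.{u}} [X.Over (Spec (CommRingCat.of k))] [Y.Over (Spec (CommRingCat.of k))]
  [IsProper (X ↘ Spec (CommRingCat.of k))] [IsProper (Y ↘ Spec (CommRingCat.of k))]
  [Smooth (X ↘ Spec (CommRingCat.of k))] [Smooth (Y ↘ Spec (CommRingCat.of k))] [IsIntegral X] [IsIntegral Y]

theorem exists_etale_open (hdX : topologicalKrullDim X = 1) (hdY : topologicalKrullDim Y = 1) (f : X ⟶ Y)
    (hf : f ≫ (Y ↘ Spec (CommRingCat.of k)) = X ↘ Spec (CommRingCat.of k)) (e : f (genericPoint X) = genericPoint Y)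
    (hsep : letI := ((Y.presheaf.stalkSpecializes (specializes_of_eq e) ≫ f.stalkMap (genericPoint X)).hom).toAlgebra
      Algebra.IsSeparable Y.functionField X.functionField) :
    ∃ U : X.Opens, (U : Set X).Nonempty ∧ Etale (U.ι ≫ f) := by
  letI : Algebra Y.functionField X.functionField :=
    ((Y.presheaf.stalkSpecializes (specializes_of_eq e) ≫ f.stalkMap (genericPoint X)).hom).toAlgebra
  haveI : LocallyOfFiniteType (f ≫ (Y ↘ Spec (CommRingCat.of k))) := by rw [hf]; infer_instance
  haveI : LocallyOfFiniteType f := locallyOfFiniteType_of_comp f (Y ↘ Spec (CommRingCat.of k))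
  have key : ∀ (a b : Y) (h : a = b), IsIso (Y.presheaf.stalkSpecializes (specializes_of_eq h)) := by
    rintro a _ rfl
    rw [TopCat.Presheaf.stalkSpecializes_refl]
    infer_instance
  haveI := key _ _ e
  haveI : Algebra.EssFiniteType Y.functionField X.functionField :=
    (RingHom.EssFiniteType.respectsIso.cancel_left_isIso _ _).mpr (LocallyOfFiniteType.stalkMap f _)
  haveI : Algebra.IsSeparable Y.functionField X.functionField := hsep
  exact (Groth.Agent.S6554.result k X Y hdX hdY f hf e).2.2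
    ⟨Algebra.finite_of_essFiniteType_of_isAlgebraic, hsep⟩

/-- The Hurwitz formula. -/
theorem hurwitz (hdX : topologicalKrullDim X = 1) (hdY : topologicalKrullDim Y = 1)
    (hX0 : CurveRR.h k (Coh.structureModule X) 0 = 1) (hY0 : CurveRR.h k (Coh.structureModule Y) 0 = 1)
    (f : X ⟶ Y) [IsFinite f] (hf : f ≫ (Y ↘ Spec (CommRingCat.of k)) = X ↘ Spec (CommRingCat.of k))
    (e : f (genericPoint X) = genericPoint Y) (U : X.Opens) (hU : (U : Set X).Nonempty) [Etale (U.ι ≫ f)] :
    2 * (Curv2.genus k X : ℤ) - 2 = (f.residueDegree (genericPoint X) : ℤ) * (2 * (Curv2.genus k Y : ℤ) - 2) +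
      (CurveRR.h k (Omega.sheaf f) 0 : ℤ) := by
  haveI := CurveRR.isNoetherian_of_proper k X
  have hIX := CurveOmega.isInvertible_omega k X hdX hX0
  have hIY := CurveOmega.isInvertible_omega k Y hdY hY0
  obtain ⟨-, -, dX⟩ := CurveOmega.omega_facts' k X hdX hX0
  obtain ⟨-, -, dY⟩ := CurveOmega.omega_facts' k Y hdY hY0
  rw [← hf] at hIX dX
  obtain ⟨c, p, w, hne, hS⟩ := exists_shortExact k (Y ↘ Spec (CommRingCat.of k)) f hIX hIY U hU
  have hIP := PicLoc.isInvertible_pullback f hIY
  have hC : Coh.IsCoh (cokernel c) :=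
    Groth.Agent.QC.isCoh_cokernel (CurveRR.isCoh_of_inv hIP).1 (CurveRR.isCoh_of_inv hIX) c
  have i : cokernel c ≅ Omega.sheaf f :=
    IsColimit.coconePointUniqueUpToIso (cokernelIsCokernel c) hS.gIsCokernel
  have hcl := Groth.Agent.QC.isClosed_support hC.2
  have hd := CurveRR.dim_le_zero_of_closed hdX.le hcl
    (CurveRR.notMem_support_coker c _ (CurveRR.surjective_stalk_generic hIX c hne))
  have hQ : Curv2.euler k X (cokernel c) = CurveRR.h k (cokernel c) 0 := CurveRR.euler_eq_h0 fun i hi =>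
    SuppZero.subsingleton_hh_of_supported hcl hd _ (fun _ hy => hy) i hi
  have hadd := CurveRR.euler_add (k := k) hS (CurveRR.isCoh_of_inv hIP) (CurveRR.isCoh_of_inv hIX)
    (CohFinite.isCoh_of_iso i hC)
  change Curv2.euler k X (Omega.sheaf (f ≫ Y ↘ _)) = Curv2.euler k X ((Scheme.Modules.pullback f).obj _) +
    Curv2.euler k X (Omega.sheaf f) at hadd
  rw [← CurveRR.euler_eq_of_iso (k := k) i, hQ, CurveRR.h_eq_of_iso (k := k) i] at hadd
  have hgen : ∀ x', f x' = f (genericPoint X) → x' = genericPoint X := fun x' hx' =>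
    (isClosed_of_discrete f (genericPoint_specializes x') hx'.symm).symm
  have hfib : ∀ y : Y, IsClosed ({y} : Set Y) → genericPoint X ∉ f ⁻¹' {y} := fun y hy h => by
    haveI := CurveRR.isNoetherian_of_proper k Y
    rw [Set.mem_preimage, Set.mem_singleton_iff, e] at h
    exact CurveRR.genericPoint_ne_of_closed (k := k) hdY (h ▸ hy) rfl
  have hdeg := DualGeneric.deg_pullback k hdX.le hdY.le f hf e hfib hgen (CurveRR.isFinLocFreeOfRank_one hIY)
  rw [dY] at hdeg
  rw [Curv2.deg] at dX hdeg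
  push_cast at *
  linarith

end Groth.Agent.Hurwitz
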